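import Cfsg.Agent.Omega.F4Leaf.Pos
import Cfsg.Agent.Omega.NSix.Zero

/-!
# LeafF4, `m ≥ 3`: DESCENT (bb OMEGA #21230, helper257), the definitions

`Sit S P m A ε`, `V = V_P = V₀ × A`; letters `Fin (2^m+1)`, `S` fixes the letter `0`.

* `ee ε X` : the vector of the set `X` of letters (`ee ε X = ee ε Xᶜ`), `ee ε {i} = zz ε i`, `ee ε {i,j} = rr ε i j`;
* `Orb ε T κ` : `κ` is an orbit of `T` on the letters;
* `IsBlk S ε a κ` : `κ` is an `S`-block of size `2^a`;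
* `MM ε T β M` : `M` is the set of the `2`-blocks outside `β`: the transpositions of `T` on the complement of `β`;
* `Half0 S P ε T b β` : `T = C_S(b)`, `b` an `S`-block, `β` its sibling; `Half` : with `b_i ∉ (V₀)^G` for the other orbits;
* `TD` : both halves and an element of `S` exchanging `b` and `β`.
-/

set_option autoImplicit false

namespace Cfsg.Agent.Omega.F4Leaf.Desc

open Subgroup Pointwise Cfsg Cfsg.Agent Cfsg.Agent.Omega.MinPar
open Cfsg.Agent.ZN (o2 zc zl)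
open Cfsg.Agent.Omega.FrameFF (cv)
open Cfsg.Agent.Omega.S5.Def Cfsg.Agent.Omega.S5.Syl Cfsg.Agent.Omega.F4Leaf.Def
open Cfsg.Agent.Omega.NSix.Base Cfsg.Agent.Omega.NSix.Basic

universe u

variable {G : Type u} [Group G]

/-- the vector of a set of letters (modulo the complement) -/
def ee {n : ℕ} (ε : (Fin n → ZMod 2) → G) (X : Finset (Fin n)) : G := ε fun i => if i ∈ X then 1 else 0

/-- `κ` is an orbit of `T` on the letters. -/
structure Orb {n : ℕ} (ε : (Fin n → ZMod 2) → G) (T : Subgroup G) (κ : Finset (Fin n)) : Prop where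
  ne : κ.Nonempty
  inv : ∀ t ∈ T, ∀ σ : Equiv.Perm (Fin n), Acts ε t σ → ∀ i ∈ κ, σ i ∈ κ
  tr : ∀ i ∈ κ, ∀ j ∈ κ, ∃ t ∈ T, ∃ σ : Equiv.Perm (Fin n), Acts ε t σ ∧ σ i = j

/-- `κ` is an `S`-block of size `2^a`. -/
structure IsBlk {n : ℕ} [NeZero n] (S : Subgroup G) (ε : (Fin n → ZMod 2) → G) (a : ℕ) (κ : Finset (Fin n)) :
    Prop where
  card : κ.card = 2 ^ a
  zero : 0 ∉ κ
  blk : ∀ s ∈ S, ∀ σ : Equiv.Perm (Fin n), Acts ε s σ → κ.image σ = κ ∨ Disjoint (κ.image σ) κ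

/-- The transpositions of `T` on the letters outside `β` are the `(i j)`, `{i, j} ∈ M`. -/
structure MM {n : ℕ} [NeZero n] (ε : (Fin n → ZMod 2) → G) (T : Subgroup G) (β : Finset (Fin n))
    (M : Finset (Finset (Fin n))) : Prop where
  two : ∀ q ∈ M, q.card = 2
  out : ∀ q ∈ M, Disjoint q β
  zero : ∀ q ∈ M, 0 ∉ q
  disj : ∀ q ∈ M, ∀ r ∈ M, q ≠ r → Disjoint q r
  card : 2 * M.card + β.card + 1 = n
  sw : ∀ i j, i ≠ j → {i, j} ∈ M → ∃ t ∈ T, Acts ε t (Equiv.swap i j)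
  mem : ∀ t ∈ T, ∀ σ : Equiv.Perm (Fin n), Acts ε t σ → ∀ i j, i ≠ j → i ∉ β → j ∉ β →
    (∀ k, k ∉ β → σ k = Equiv.swap i j k) → {i, j} ∈ M

variable {m : ℕ}

/-- `T = C_S(b)`; `β` is the sibling of the `S`-block `b` of size `2^a`. -/
structure Half0 (S : Subgroup G) (P : Subgroup G) (ε : (Fin (2 ^ m + 1) → ZMod 2) → G) (T : Subgroup G) (a : ℕ)
    (b β : Finset (Fin (2 ^ m + 1))) : Prop where
  le : T ≤ S
  Q_le : o2 P ≤ T
  comm : ∀ t ∈ T, t * ee ε b = ee ε b * t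
  mem : ∀ s ∈ S, s * ee ε b = ee ε b * s → s ∈ T
  blk : IsBlk S ε a b
  disj : Disjoint b β
  orb_b : Orb ε T b
  orbs : ∀ κ, Orb ε T κ → κ = {0} ∨ κ = b ∨ κ = β ∨ ∃ i, a < i ∧ i < m ∧ IsBlk S ε i κ
  /-- (1) -/
  one : ∀ y ∈ normalizer (T : Set G), y * ee ε b = ee ε b * y → y ∉ T → y ^ 2 ∈ T →
    y ∉ normalizer (zl S P : Set G)
  mm : ∃ M, MM ε T β M

/-- The two halves and the exchange. -/
structure TD0 (S : Subgroup G) (P : Subgroup G) (ε : (Fin (2 ^ m + 1) → ZMod 2) → G) (T : Subgroup G) (a : ℕ)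
    (b β : Finset (Fin (2 ^ m + 1))) : Prop where
  left : Half0 S P ε T a b β
  right : Half0 S P ε T a β b
  exch : ∃ x ∈ S, ∃ ξ : Equiv.Perm (Fin (2 ^ m + 1)), Acts ε x ξ ∧ b.image ξ = β ∧ β.image ξ = b

/-- `TD0` for a block `b ∈ (V₀)^G` of maximal size. -/
structure TD (S : Subgroup G) (P : Subgroup G) (ε : (Fin (2 ^ m + 1) → ZMod 2) → G) (T : Subgroup G) (a : ℕ)
    (b β : Finset (Fin (2 ^ m + 1))) : Prop extends TD0 S P ε T a b β where
  pos : 1 ≤ a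
  lt : a < m
  fus : ∃ g : G, g * ee ε b * g⁻¹ ∈ cv S P
  max : ∀ i, a < i → i < m → ∀ κ, IsBlk S ε i κ → ∀ g : G, g * ee ε κ * g⁻¹ ∉ cv S P

/-- (T1): for every `S`-block `b` of size `2^a`, `1 ≤ a < m`; and there are blocks. -/
def T1 : Prop :=
  ∀ (G : Type u) [Group G] [Finite G] (S : Sylow 2 G) (P : Subgroup G) (m : ℕ) (A : Subgroup G)
    (ε : (Fin (2 ^ m + 1) → ZMod 2) → G), Pos.Sit S P m A ε → 3 ≤ m → ∀ a, 1 ≤ a → a < m →
      (∃ b, IsBlk (S : Subgroup G) ε a b) ∧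
        ∀ b, IsBlk (S : Subgroup G) ε a b →
          ∃ β, TD0 (S : Subgroup G) P ε ((S : Subgroup G) ⊓ centralizer {ee ε b}) a b β

end Cfsg.Agent.Omega.F4Leaf.Desc
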